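import Mathlib

/-! Orders of power series, behaviour of substitution under perturbation, inverse of a substitution
tangent to the identity. -/

set_option autoImplicit false
namespace Groth.Agent.Morse

open MvPowerSeries
open Finsupp (single)

universe u
variable {σ : Type*} {A : Type u} [CommRing A]

local notation "S" => MvPowerSeries σ A

/-- All coefficients of degree `< d` vanish. -/
def Ord (d : ℕ) (f : S) : Prop := ∀ e : σ →₀ ℕ, e.degree < d → coeff e f = 0

theorem ord_iff {d : ℕ} {f : S} : Ord d f ↔ (d : ℕ∞) ≤ f.order :=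
  ⟨fun h => nat_le_order h, fun h e he => coeff_of_lt_order (lt_of_lt_of_le (Nat.cast_lt.2 he) h)⟩

theorem Ord.zero {d : ℕ} : Ord d (0 : S) := fun _ _ => map_zero _
theorem ord_zero_deg {f : S} : Ord 0 f := fun _ he => absurd he (Nat.not_lt_zero _)
theorem Ord.mono {a b : ℕ} {f : S} (h : Ord b f) (hab : a ≤ b) : Ord a f := fun e he => h e (lt_of_lt_of_le he hab)
theorem Ord.add {d : ℕ} {f g : S} (hf : Ord d f) (hg : Ord d g) : Ord d (f + g) := fun e he => by
  rw [map_add, hf e he, hg e he, add_zero]
theorem Ord.neg {d : ℕ} {f : S} (hf : Ord d f) : Ord d (-f) := fun e he => by rw [map_neg, hf e he, neg_zero]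
theorem Ord.sub {d : ℕ} {f g : S} (hf : Ord d f) (hg : Ord d g) : Ord d (f - g) := fun e he => by
  rw [map_sub, hf e he, hg e he, sub_zero]
theorem Ord.mul {a b : ℕ} {f g : S} (hf : Ord a f) (hg : Ord b g) : Ord (a + b) (f * g) :=
  ord_iff.2 (le_trans (by push_cast; exact add_le_add (ord_iff.1 hf) (ord_iff.1 hg)) le_order_mul)
theorem Ord.mul_left {d : ℕ} {f : S} (hf : Ord d f) (g : S) : Ord d (g * f) := by
  simpa using (ord_zero_deg (f := g)).mul hf
theorem Ord.sum {d : ℕ} {ι : Type*} {s : Finset ι} {f : ι → S} (h : ∀ i ∈ s, Ord d (f i)) : Ord d (∑ i ∈ s, f i) := fun e he => by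
  rw [map_sum]; exact Finset.sum_eq_zero fun i hi => h i hi e he
theorem ord_X (i : σ) : Ord 1 (X i : S) := fun e he => by
  classical
  rw [coeff_X, if_neg]
  rintro rfl
  rw [Finsupp.degree_single] at he
  omega
theorem eq_zero_of_ord {f : S} (h : ∀ d, Ord d f) : f = 0 := MvPowerSeries.ext fun e => by
  rw [map_zero]; exact h (e.degree + 1) e (Nat.lt_succ_self _)
theorem constantCoeff_of_ord {f : S} (h : Ord 1 f) : constantCoeff f = 0 := by
  rw [← coeff_zero_eq_constantCoeff_apply]; exact h 0 (by simp)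

theorem exists_single_add {e : σ →₀ ℕ} {n : ℕ} (he : e.degree = n + 1) :
    ∃ i e', e = single i 1 + e' ∧ e'.degree = n := by
  obtain ⟨i, hi⟩ : ∃ i, e i ≠ 0 := by
    by_contra hc
    push_neg at hc
    rw [show e = 0 from Finsupp.ext hc, map_zero] at he
    omega
  obtain ⟨e', rfl⟩ := exists_add_of_le (Finsupp.single_le_iff.2 (Nat.one_le_iff_ne_zero.2 hi))
  refine ⟨i, e', rfl, ?_⟩
  rw [map_add, Finsupp.degree_single] at he
  omega

theorem prod_single_add (u : σ → S) (i : σ) (e : σ →₀ ℕ) :
    (single i 1 + e).prod (fun s k => u s ^ k) = u i * e.prod (fun s k => u s ^ k) := by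
  classical
  rw [Finsupp.prod_add_index' (fun _ => pow_zero _) (fun _ => pow_add _),
    Finsupp.prod_single_index (h := fun s k => u s ^ k) (pow_zero _), pow_one]

theorem ord_prod {u : σ → S} (hu : ∀ i, Ord 1 (u i)) :
    ∀ (n : ℕ) (e : σ →₀ ℕ), e.degree = n → Ord n (e.prod fun s k => u s ^ k) := by
  intro n
  induction n with
  | zero => exact fun e _ => ord_zero_deg
  | succ n ih =>
    intro e he
    obtain ⟨i, e', rfl, he'⟩ := exists_single_add he
    rw [prod_single_add, add_comm n 1]
    exact (hu i).mul (ih e' he')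

theorem ord_prod_sub {u v : σ → S} {d : ℕ} (hu : ∀ i, Ord 1 (u i)) (hv : ∀ i, Ord 1 (v i))
    (huv : ∀ i, Ord d (u i - v i)) :
    ∀ (n : ℕ) (e : σ →₀ ℕ), e.degree = n →
      Ord (d + n - 1) (e.prod (fun s k => u s ^ k) - e.prod fun s k => v s ^ k) := by
  intro n
  induction n with
  | zero =>
    intro e he
    obtain rfl := (Finsupp.degree_eq_zero_iff e).1 he
    simpa using Ord.zero
  | succ n ih =>
    intro e he
    obtain ⟨i, e', rfl, he'⟩ := exists_single_add he
    have : ∀ a b c a' : S, a * b - a' * c = (a - a') * b + a' * (b - c) := fun a b c a' => by ring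
    rw [prod_single_add, prod_single_add, this]
    refine Ord.add (Ord.mono ((huv i).mul (ord_prod hu n e' he')) (by omega)) ?_
    exact Ord.mono ((hv i).mul (ih e' he')) (by omega)

section Finite

variable [Finite σ]

theorem hasSubst_of_ord {u : σ → S} (hu : ∀ i, Ord 1 (u i)) : HasSubst u :=
  hasSubst_of_constantCoeff_zero fun i => constantCoeff_of_ord (hu i)

/-- Substitutions close to one another give close values. -/
theorem ord_subst_sub {u v : σ → S} {d r : ℕ} (hu : ∀ i, Ord 1 (u i)) (hv : ∀ i, Ord 1 (v i))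
    (huv : ∀ i, Ord d (u i - v i)) {f : S} (hf : ∀ a : σ →₀ ℕ, a ≠ 0 → a.degree < r → coeff a f = 0) :
    Ord (d + r - 1) (subst u f - subst v f) := by
  intro e he
  rw [map_sub, sub_eq_zero, coeff_subst (hasSubst_of_ord hu), coeff_subst (hasSubst_of_ord hv)]
  refine finsum_congr fun a => ?_
  by_cases ha : a = 0
  · subst ha; simp
  by_cases har : a.degree < r
  · rw [hf a ha har, zero_smul, zero_smul]
  · rw [← sub_eq_zero, ← smul_sub, ← map_sub, ord_prod_sub hu hv huv _ a rfl e (by omega), smul_zero]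

theorem ord_subst {u : σ → S} {r : ℕ} (hu : ∀ i, Ord 1 (u i)) {f : S} (hf : Ord r f) : Ord r (subst u f) := by
  intro e he
  rw [coeff_subst (hasSubst_of_ord hu)]
  refine (finsum_congr fun a => ?_).trans finsum_zero
  by_cases har : a.degree < r
  · rw [hf a har, zero_smul]
  · rw [ord_prod hu _ a rfl e (by omega), smul_zero]

end Finite

/-- The coefficientwise limit of a sequence. -/
noncomputable def lim (h : ℕ → S) : S := fun e => coeff e (h (e.degree + 1))

theorem ord_lim_sub {h : ℕ → S} {c : ℕ} (hc : ∀ k, Ord (c + k) (h (k + 1) - h k)) (k : ℕ) :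
    Ord (c + k) (lim h - h k) := by
  have hd : ∀ k l, Ord (c + k) (h (k + l) - h k) := by
    intro k l
    induction l with
    | zero => simpa using Ord.zero
    | succ l ih =>
      rw [← add_assoc, ← sub_add_sub_cancel (h (k + l + 1)) (h (k + l)) (h k)]
      exact Ord.add ((hc (k + l)).mono (by omega)) ih
  intro e he
  rw [map_sub, sub_eq_zero]
  show coeff e (h (e.degree + 1)) = _
  rcases Nat.le_total k (e.degree + 1) with hk | hk
  · obtain ⟨l, hl⟩ := Nat.exists_eq_add_of_le hk
    rw [hl, ← sub_eq_zero, ← map_sub]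
    exact hd k l e he
  · obtain ⟨l, hl⟩ := Nat.exists_eq_add_of_le hk
    rw [hl, eq_comm, ← sub_eq_zero, ← map_sub]
    exact hd _ l e (by omega)

section Inverse

variable [Finite σ]

theorem ord_X_add {g : σ → S} (hg : ∀ i, Ord 2 (g i)) (i : σ) : Ord 1 (X i + g i) :=
  (ord_X i).add ((hg i).mono (by omega))

noncomputable def invSeq (h : σ → S) : ℕ → σ → S
  | 0 => fun _ => 0
  | k + 1 => fun i => -subst (fun j => X j + invSeq h k j) (h i)

theorem invSeq_ord {h : σ → S} (hh : ∀ i, Ord 2 (h i)) : ∀ k i, Ord 2 (invSeq h k i)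
  | 0, _ => Ord.zero
  | k + 1, i => (ord_subst (ord_X_add (invSeq_ord hh k)) (hh i)).neg

theorem invSeq_sub {h : σ → S} (hh : ∀ i, Ord 2 (h i)) : ∀ k i, Ord (2 + k) (invSeq h (k + 1) i - invSeq h k i)
  | 0, i => (invSeq_ord hh 1 i).sub Ord.zero
  | k + 1, i => by
    show Ord _ (-subst _ (h i) - -subst _ (h i))
    rw [neg_sub_neg]
    refine Ord.mono (ord_subst_sub (d := 2 + k) (r := 2) (ord_X_add (invSeq_ord hh k))
      (ord_X_add (invSeq_ord hh (k + 1))) (fun j => ?_) fun a _ ha => hh i a ha) (by omega)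
    rw [add_sub_add_left_eq_sub, ← neg_sub]
    exact (invSeq_sub hh k j).neg

/-- A substitution tangent to the identity has a right inverse of the same kind. -/
theorem exists_rightInverse {h : σ → S} (hh : ∀ i, Ord 2 (h i)) :
    ∃ g : σ → S, (∀ i, Ord 2 (g i)) ∧ ∀ f : S, subst (fun i => X i + g i) (subst (fun i => X i + h i) f) = f := by
  let g : σ → S := fun i => lim fun k => invSeq h k i
  have hlim : ∀ k i, Ord (2 + k) (g i - invSeq h k i) := fun k i => ord_lim_sub (fun k => invSeq_sub hh k i) k
  have hg : ∀ i, Ord 2 (g i) := fun i => by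
    have := hlim 0 i
    rwa [show invSeq h 0 i = 0 from rfl, sub_zero] at this
  have hfix : ∀ i, g i + subst (fun j => X j + g j) (h i) = 0 := fun i => eq_zero_of_ord fun d => by
    have e : g i + subst (fun j => X j + g j) (h i) =
        (g i - invSeq h (d + 1) i) + (subst (fun j => X j + g j) (h i) - subst (fun j => X j + invSeq h d j) (h i)) := by
      show _ = (g i - -subst _ (h i)) + _
      ring
    rw [e]
    refine Ord.add ((hlim (d + 1) i).mono (by omega)) ?_
    refine Ord.mono (ord_subst_sub (d := 2 + d) (r := 2) (ord_X_add hg) (ord_X_add (invSeq_ord hh d)) (fun j => ?_)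
      fun a _ ha => hh i a ha) (by omega)
    rw [add_sub_add_left_eq_sub]
    exact hlim d j
  refine ⟨g, hg, fun f => ?_⟩
  have ha := hasSubst_of_ord (ord_X_add hh)
  have hb := hasSubst_of_ord (ord_X_add hg)
  rw [subst_comp_subst_apply ha hb, show (fun s => subst (fun i => X i + g i) (X s + h s)) = MvPowerSeries.X from
    funext fun s => by rw [subst_add hb, subst_X hb, add_assoc, hfix, add_zero], subst_self, id_eq]

/-- A substitution tangent to the identity is bijective. -/
theorem subst_bijective {h : σ → S} (hh : ∀ i, Ord 2 (h i)) :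
    Function.Bijective (subst (R := A) fun i => X i + h i) := by
  obtain ⟨g, hg, hgh⟩ := exists_rightInverse hh
  obtain ⟨l, -, hlg⟩ := exists_rightInverse hg
  have hinj : Function.Injective (subst (R := A) fun i => X i + h i) := fun a b e => by
    rw [← hgh a, ← hgh b]; exact congrArg _ e
  refine ⟨hinj, fun f => ⟨subst (fun i => X i + g i) f, ?_⟩⟩
  have ginj : Function.Injective (subst (R := A) fun i => X i + g i) := fun a b e => by
    rw [← hlg a, ← hlg b]; exact congrArg _ e
  exact ginj (hgh _)

end Inverse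

end Groth.Agent.Morse
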