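import Mathlib
import Groth.Prelude.Def_QuadSing
import Groth.Agent.Morse.Ord

/-! Morse lemma: a power series agreeing with a non-degenerate quadratic plus constant to order `m`
becomes equal to it after a substitution tangent to the identity. -/

set_option autoImplicit false
namespace Groth.Agent.Morse

open MvPowerSeries
open Finsupp (single)

universe u
variable {A : Type u} [CommRing A] {n : ℕ}

local notation "S" => MvPowerSeries (Fin n) A

/-- The value of the quadratic form at a tuple of power series. -/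
noncomputable def qval (q : Fin n → Fin n → A) (v : Fin n → S) : S :=
  ∑ i, ∑ j, if i ≤ j then C (q i j) * v i * v j else 0

theorem subst_target {q : Fin n → Fin n → A} {a : A} {v : Fin n → S} (hv : ∀ i, Ord 1 (v i)) :
    subst v ((VanCyc.quadPoly q + MvPolynomial.C a : MvPolynomial (Fin n) A) : S) = qval q v + C a := by
  rw [subst_coe]
  simp [VanCyc.quadPoly, qval, map_sum, apply_ite (MvPolynomial.aeval v), MvPowerSeries.algebraMap_apply]

theorem target_eq {q : Fin n → Fin n → A} {a : A} :
    ((VanCyc.quadPoly q + MvPolynomial.C a : MvPolynomial (Fin n) A) : S) = qval q X + C a := by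
  rw [← subst_target (fun i => ord_X i), subst_self]
  rfl

/-- `D j G`: the terms of `G` whose least variable is `x_j`, divided by `x_j`. -/
noncomputable def dvar (j : Fin n) (G : S) : S :=
  fun e => if ∀ i < j, e i = 0 then coeff (e + single j 1) G else 0

theorem coeff_dvar (j : Fin n) (G : S) (e : Fin n →₀ ℕ) :
    coeff e (dvar j G) = if ∀ i < j, e i = 0 then coeff (e + single j 1) G else 0 := rfl

theorem ord_dvar (j : Fin n) {G : S} {d : ℕ} (h : Ord (d + 1) G) : Ord d (dvar j G) := fun e he => by
  rw [coeff_dvar]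
  split_ifs
  · exact h _ (by rw [map_add, Finsupp.degree_single]; omega)
  · rfl

theorem sum_X_mul_dvar {G : S} (h : constantCoeff G = 0) : ∑ j, X j * dvar j G = G := by
  classical
  refine MvPowerSeries.ext fun a => ?_
  rw [map_sum]
  simp only [X, coeff_monomial_mul, one_mul, coeff_dvar]
  by_cases ha : a = 0
  · subst ha
    rw [coeff_zero_eq_constantCoeff_apply, h]
    exact Finset.sum_eq_zero fun j _ => if_neg fun hle => by
      have := hle j
      simp at this
  obtain ⟨j₀, hj₀, hmin⟩ : ∃ j₀, a j₀ ≠ 0 ∧ ∀ i < j₀, a i = 0 := by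
    have hne : a.support.Nonempty := Finsupp.support_nonempty_iff.2 ha
    refine ⟨a.support.min' hne, Finsupp.mem_support_iff.1 (a.support.min'_mem hne), fun i hi => ?_⟩
    by_contra hc
    exact absurd (a.support.min'_le i (Finsupp.mem_support_iff.2 hc)) (not_le.2 hi)
  rw [Finset.sum_eq_single j₀]
  · have hle : single j₀ 1 ≤ a := Finsupp.single_le_iff.2 (Nat.one_le_iff_ne_zero.2 hj₀)
    rw [if_pos hle, if_pos, tsub_add_cancel_of_le hle]
    intro i hi
    rw [Finsupp.tsub_apply, hmin i hi, Nat.zero_sub]
  · intro j _ hj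
    split_ifs with h1 h2
    · rcases lt_or_gt_of_ne hj with hlt | hgt
      · exact absurd (hmin j hlt) (Nat.one_le_iff_ne_zero.1 (Finsupp.single_le_iff.1 h1))
      · have := h2 j₀ hgt
        rw [Finsupp.tsub_apply, Finsupp.single_eq_of_ne hj.symm, Nat.sub_zero] at this
        exact absurd this hj₀
    · rfl
    · rfl
  · simp

/-- The error of the substitution `x + h`. -/
noncomputable def err (q : Fin n → Fin n → A) (a : A) (F : S) (h : Fin n → S) : S :=
  subst (fun i => X i + h i) F - ((VanCyc.quadPoly q + MvPolynomial.C a : MvPolynomial (Fin n) A) : S)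

/-- The correction killing the lowest order term of the error. -/
noncomputable def corr (q : Fin n → Fin n → A) (a : A) (F : S) (h : Fin n → S) : Fin n → S :=
  fun i => -∑ l, C (((VanCyc.polarMatrix q).transpose)⁻¹ i l) * dvar l (err q a F h)

noncomputable def seq (q : Fin n → Fin n → A) (a : A) (F : S) : ℕ → Fin n → S
  | 0 => fun _ => 0
  | k + 1 => fun i => seq q a F k i + corr q a F (seq q a F k) i

variable {q : Fin n → Fin n → A} {a : A} {F : MvPowerSeries (Fin n) A}

theorem ord_corr {h : Fin n → S} {d : ℕ} (he : Ord (d + 1) (err q a F h)) (i : Fin n) : Ord d (corr q a F h i) :=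
  (Ord.sum fun l _ => (ord_dvar l he).mul_left _).neg

theorem polar_symm_sum (δ : Fin n → S) :
    (∑ i : Fin n, ∑ j : Fin n, if i ≤ j then C (q i j) * (X i * δ j + X j * δ i) else 0) =
      ∑ i : Fin n, ∑ j : Fin n, C (VanCyc.polarMatrix q i j) * (X j * δ i) := by
  have hP : ∀ i j, VanCyc.polarMatrix q i j = (if i ≤ j then q i j else 0) + (if j ≤ i then q j i else 0) := by
    intro i j
    unfold VanCyc.polarMatrix
    rcases lt_trichotomy i j with h | h | h
    · rw [if_neg (ne_of_lt h), if_pos h, if_pos h.le, if_neg (not_le.2 h), add_zero]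
    · subst h; simp [two_mul]
    · rw [if_neg (ne_of_gt h), if_neg (not_lt.2 h.le), if_neg (not_le.2 h), if_pos h.le, zero_add]
  simp only [hP, map_add, apply_ite C, map_zero, add_mul, ite_mul, zero_mul, mul_add, ite_add_zero,
    Finset.sum_add_distrib]
  rw [add_comm]
  congr 1
  exact Finset.sum_comm

theorem step (hq : VanCyc.QuadNondeg q) {m : ℕ} (hm : 2 ≤ m)
    (hR : Ord (m + 1) (F - ((VanCyc.quadPoly q + MvPolynomial.C a : MvPolynomial (Fin n) A) : S)))
    {h : Fin n → S} (hh : ∀ i, Ord 2 (h i)) {d : ℕ} (hd : 2 ≤ d) (he : Ord (d + 1) (err q a F h)) :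
    Ord (d + 2) (err q a F fun i => h i + corr q a F h i) := by
  classical
  set δ := corr q a F h with hδdef
  have hδ : ∀ i, Ord d (δ i) := ord_corr he
  have hh' : ∀ i, Ord 2 (h i + δ i) := fun i => (hh i).add ((hδ i).mono hd)
  have hu := ord_X_add hh
  have hu' := ord_X_add hh'
  set T : S := ((VanCyc.quadPoly q + MvPolynomial.C a : MvPolynomial (Fin n) A) : S) with hT
  set R := F - T
  have hsplit : ∀ {g : Fin n → S}, (∀ i, Ord 2 (g i)) →
      subst (fun i => X i + g i) F = subst (fun i => X i + g i) R + qval q (fun i => X i + g i) + C a := fun {g} hg => by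
    rw [add_assoc, ← subst_target (ord_X_add hg), ← subst_add (hasSubst_of_ord (ord_X_add hg))]
    congr 1
    simp [R, hT]
  have h1 : Ord (d + 2) (subst (fun i => X i + (h i + δ i)) R - subst (fun i => X i + h i) R) :=
    Ord.mono (ord_subst_sub (d := d) (r := m + 1) hu' hu
      (fun i => by rw [add_sub_add_left_eq_sub, add_sub_cancel_left]; exact hδ i) fun b _ hb => hR b hb) (by omega)
  have h2 : Ord (d + 2) (qval q (fun i => X i + (h i + δ i)) - qval q (fun i => X i + h i) -
      ∑ i : Fin n, ∑ j : Fin n, if i ≤ j then C (q i j) * (X i * δ j + X j * δ i) else 0) := by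
    simp only [qval, ← Finset.sum_sub_distrib]
    refine Ord.sum fun i _ => Ord.sum fun j _ => ?_
    split_ifs
    · rw [show C (q i j) * (X i + (h i + δ i)) * (X j + (h j + δ j)) - C (q i j) * (X i + h i) * (X j + h j) -
        C (q i j) * (X i * δ j + X j * δ i) = C (q i j) * (h i * δ j + h j * δ i + δ i * δ j) by ring]
      refine Ord.mul_left (Ord.add (Ord.add ?_ ?_) ?_) _
      · exact ((hh i).mul (hδ j)).mono (by omega)
      · exact ((hh j).mul (hδ i)).mono (by omega)
      · exact ((hδ i).mul (hδ j)).mono (by omega)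
    · simpa using Ord.zero
  have h3 : (∑ i : Fin n, ∑ j : Fin n, if i ≤ j then C (q i j) * (X i * δ j + X j * δ i) else 0) = -err q a F h := by
    rw [polar_symm_sum, Finset.sum_comm]
    conv_rhs => rw [← sum_X_mul_dvar (constantCoeff_of_ord (he.mono (by omega)))]
    rw [← Finset.sum_neg_distrib]
    refine Finset.sum_congr rfl fun j _ => ?_
    have hinv : ∀ l, ∑ i, VanCyc.polarMatrix q i j * ((VanCyc.polarMatrix q).transpose)⁻¹ i l = if j = l then 1 else 0 := fun l => by
      have h0 : (VanCyc.polarMatrix q).transpose * ((VanCyc.polarMatrix q).transpose)⁻¹ = 1 :=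
        Matrix.mul_nonsing_inv _ (by rwa [Matrix.det_transpose])
      have := congrFun (congrFun h0 j) l
      rw [Matrix.mul_apply, Matrix.one_apply] at this
      exact this
    calc ∑ i, C (VanCyc.polarMatrix q i j) * (X j * δ i)
        = X j * -∑ l, C (∑ i, VanCyc.polarMatrix q i j * ((VanCyc.polarMatrix q).transpose)⁻¹ i l) * dvar l (err q a F h) := by
          simp only [hδdef, corr, map_sum, map_mul, Finset.sum_mul, Finset.mul_sum, mul_neg, neg_mul, Finset.sum_neg_distrib]
          rw [neg_inj, Finset.sum_comm]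
          exact Finset.sum_congr rfl fun _ _ => Finset.sum_congr rfl fun _ _ => by ring
      _ = -(X j * dvar j (err q a F h)) := by
          simp [hinv, apply_ite C, ite_mul]
  have key : err q a F (fun i => h i + δ i) =
      (subst (fun i => X i + (h i + δ i)) R - subst (fun i => X i + h i) R) +
        (qval q (fun i => X i + (h i + δ i)) - qval q (fun i => X i + h i) -
          ∑ i : Fin n, ∑ j : Fin n, if i ≤ j then C (q i j) * (X i * δ j + X j * δ i) else 0) := by
    rw [h3, err, err, hsplit hh, hsplit hh']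
    ring
  rw [key]
  exact h1.add h2

theorem seq_ord (hq : VanCyc.QuadNondeg q) {m : ℕ} (hm : 2 ≤ m)
    (hR : Ord (m + 1) (F - ((VanCyc.quadPoly q + MvPolynomial.C a : MvPolynomial (Fin n) A) : S))) :
    ∀ k, (∀ i, Ord m (seq q a F k i)) ∧ Ord (m + k + 1) (err q a F (seq q a F k))
  | 0 => ⟨fun _ => Ord.zero, by
      have : (fun i => (X i : S) + seq q a F 0 i) = X := funext fun i => add_zero _
      rw [err, this, subst_self]
      exact hR⟩
  | k + 1 => by
      obtain ⟨h1, h2⟩ := seq_ord hq hm hR k
      exact ⟨fun i => (h1 i).add ((ord_corr h2 i).mono (by omega)),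
        (step hq hm hR (fun i => (h1 i).mono hm) (d := m + k) (by omega) h2).mono (by omega)⟩

/-- Morse lemma over a commutative ring. -/
theorem exists_subst_eq (hq : VanCyc.QuadNondeg q) {m : ℕ} (hm : 2 ≤ m)
    (hR : Ord (m + 1) (F - ((VanCyc.quadPoly q + MvPolynomial.C a : MvPolynomial (Fin n) A) : S))) :
    ∃ h : Fin n → S, (∀ i, Ord m (h i)) ∧
      subst (fun i => X i + h i) F = ((VanCyc.quadPoly q + MvPolynomial.C a : MvPolynomial (Fin n) A) : S) := by
  let h : Fin n → S := fun i => lim fun k => seq q a F k i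
  have hlim : ∀ k i, Ord (m + k) (h i - seq q a F k i) := fun k i =>
    ord_lim_sub (fun k => by
      show Ord _ (seq q a F k i + corr q a F (seq q a F k) i - seq q a F k i)
      rw [add_sub_cancel_left]
      exact ord_corr (seq_ord hq hm hR k).2 i) k
  have hh : ∀ i, Ord m (h i) := fun i => by
    have := hlim 0 i
    rwa [show seq q a F 0 i = 0 from rfl, sub_zero] at this
  refine ⟨h, hh, sub_eq_zero.1 (eq_zero_of_ord fun d => ?_)⟩
  have := (seq_ord hq hm hR d)
  rw [← sub_add_cancel (subst (fun i => X i + h i) F - _) (err q a F (seq q a F d))]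
  refine Ord.add (Ord.mono ?_ (show d ≤ m + d + 1 - 1 by omega)) (this.2.mono (by omega))
  rw [err, sub_sub_sub_cancel_right]
  refine Ord.mono (ord_subst_sub (d := m + d) (r := 1) (ord_X_add fun i => (hh i).mono hm)
    (ord_X_add fun i => (this.1 i).mono hm) (fun i => ?_) fun b hb h1 => ?_) (by omega)
  · rw [add_sub_add_left_eq_sub]; exact hlim d i
  · exact absurd ((Finsupp.degree_eq_zero_iff b).1 (by omega)) hb

theorem morse (hq : VanCyc.QuadNondeg q) {m : ℕ} (hm : 2 ≤ m)
    (hF : ∀ e : Fin n →₀ ℕ, e.degree ≤ m →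
      coeff e F = coeff e ((VanCyc.quadPoly q + MvPolynomial.C a : MvPolynomial (Fin n) A) : S)) :
    ∃ h : Fin n → S, (∀ (i : Fin n) (e : Fin n →₀ ℕ), e.degree < m → coeff e (h i) = 0) ∧
      HasSubst (fun i => X i + h i) ∧
      subst (fun i => X i + h i) F = ((VanCyc.quadPoly q + MvPolynomial.C a : MvPolynomial (Fin n) A) : S) ∧
      Nonempty ((S ⧸ Ideal.span {F}) ≃ₐ[A]
        (S ⧸ Ideal.span {((VanCyc.quadPoly q + MvPolynomial.C a : MvPolynomial (Fin n) A) : S)})) := by
  obtain ⟨h, hh, he⟩ := exists_subst_eq hq hm (F := F) fun e hlt => by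
    rw [map_sub, hF e (by omega), sub_self]
  have hh2 : ∀ i, Ord 2 (h i) := fun i => (hh i).mono hm
  have hs := hasSubst_of_ord (ord_X_add hh2)
  let σ : S ≃ₐ[A] S := AlgEquiv.ofBijective (substAlgHom hs) (by
    rw [coe_substAlgHom]; exact subst_bijective hh2)
  refine ⟨h, hh, hs, he, ⟨Ideal.quotientEquivAlg _ _ σ ?_⟩⟩
  rw [Ideal.map_span, Set.image_singleton]
  congr 2
  rw [← he]
  exact (substAlgHom_apply hs F).symm

end Groth.Agent.Morse
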