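import Mathlib

/-! Translation `x ↦ x + c` of power series over an adically complete ring. -/

set_option autoImplicit false
namespace Groth.Agent.Morse

open MvPowerSeries
open scoped MvPowerSeries.WithPiTopology
open Finsupp (single)

universe u
variable {A : Type u} [CommRing A] (I : Ideal A) [IsAdicComplete I A] {n : ℕ}

local notation "S" => MvPowerSeries (Fin n) A

theorem exists_translate :
    ∃ tr : (Fin n → I) → (S ≃ₐ[A] S),
      (∀ c d F, tr d (tr c F) = tr (c + d) F) ∧
      (∀ (k : ℕ) (c : Fin n → I), (∀ i, (c i : A) ∈ I ^ (k + 1)) → ∀ (F : S) (e : Fin n →₀ ℕ),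
        coeff e (tr c F) - coeff e F -
          ∑ i, ((e i : A) + 1) * ((c i : A) * coeff (e + single i 1) F) ∈ I ^ (k + 2)) := by
  classical
  letI : WithIdeal A := ⟨I⟩
  haveI : CompleteSpace A := ((IsAdic.isAdicComplete_iff (I := I) rfl).1 inferInstance).1
  haveI : T2Space A := ((IsAdic.isAdicComplete_iff (I := I) rfl).1 inferInstance).2
  haveI : IsLinearTopology Aᵐᵒᵖ A := IsLinearTopology.mk_of_hasBasis' _ (IsLinearTopology.hasBasis_ideal (R := A))
    fun J r m hm => J.mul_mem_right _ hm
  have hev : ∀ c : Fin n → I, HasEval (fun i => (X i + C (c i : A) : S)) := fun c => by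
    refine ⟨fun i => MvPowerSeries.LinearTopology.isTopologicallyNilpotent_of_constantCoeff ?_, ?_⟩
    · rw [map_add, constantCoeff_X, zero_add, constantCoeff_C]
      exact WithIdeal.isTopologicallyNilpotent_of_mem (c i).2
    · rw [Filter.cofinite_eq_bot]
      exact Filter.tendsto_bot
  let T : (Fin n → I) → (S →ₐ[A] S) := fun c => aeval (hev c)
  have hT : ∀ c, Continuous (T c) := fun c => continuous_aeval (hev c)
  have hTX : ∀ c i, T c (X i) = X i + C (c i : A) := fun c i => by
    show aeval (hev c) (X i) = _
    rw [show (X i : S) = ((MvPolynomial.X i : MvPolynomial (Fin n) A) : S) from (MvPolynomial.coe_X i).symm,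
      aeval_coe, MvPolynomial.aeval_X, MvPolynomial.coe_X]
  have hTC : ∀ c a, T c (C a) = C a := fun c a => by
    have := (T c).commutes a
    rwa [MvPowerSeries.algebraMap_apply] at this
  have hid : ∀ c : Fin n → I, (∀ i, (c i : A) = 0) → T c = AlgHom.id A S := fun c hc => by
    have := aeval_unique (R := A) (σ := Fin n) (ε := AlgHom.id A S) continuous_id
    rw [← this]
    show aeval (hev c) = _
    congr 1
    funext i
    rw [hc i, map_zero, add_zero]
    rfl
  have hcomp : ∀ c d, (T d).comp (T c) = T (c + d) := fun c d => by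
    show (T d).comp (aeval (hev c)) = _
    rw [comp_aeval (hev c) (hT d)]
    show _ = aeval (hev (c + d))
    congr 1
    funext i
    show T d (X i + C (c i : A)) = _
    rw [map_add, hTX, hTC, Pi.add_apply, Submodule.coe_add, map_add]
    abel
  let tr : (Fin n → I) → (S ≃ₐ[A] S) := fun c => AlgEquiv.ofAlgHom (T c) (T (-c))
    (by rw [hcomp, neg_add_cancel]; exact hid _ fun i => rfl)
    (by rw [hcomp, add_neg_cancel]; exact hid _ fun i => rfl)
  refine ⟨tr, fun c d F => AlgHom.congr_fun (hcomp c d) F, fun k c hc F e => ?_⟩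
  have hclosed : IsClosed ((I ^ (k + 2) : Ideal A) : Set A) := by
    exact AddSubgroup.isClosed_of_isOpen (I ^ (k + 2) : Ideal A).toAddSubgroup
      (AddSubgroup.isOpen_of_mem_nhds _ (g := (0 : A)) (I.hasBasis_nhds_zero_adic.mem_of_mem (i := k + 2) trivial))
  refine WithPiTopology.denseRange_toMvPowerSeries.induction_on
    (p := fun G : S => coeff e (T c G) - coeff e G -
      ∑ i, ((e i : A) + 1) * ((c i : A) * coeff (e + single i 1) G) ∈ I ^ (k + 2)) F ?_ ?_
  · refine hclosed.preimage ?_
    refine (((WithPiTopology.continuous_coeff A e).comp (hT c)).sub (WithPiTopology.continuous_coeff A e)).sub ?_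
    exact continuous_finsetSum _ fun i _ =>
      continuous_const.mul (continuous_const.mul (WithPiTopology.continuous_coeff A _))
  intro p
  let φ : S →+* MvPowerSeries (Fin n) (A ⧸ I ^ (k + 2)) := MvPowerSeries.map (Ideal.Quotient.mk _)
  have key : ∀ p : MvPolynomial (Fin n) A, φ (T c (p : S)) =
      φ (p : S) + ∑ i, φ (C (c i : A)) * φ ((MvPolynomial.pderiv i p : MvPolynomial (Fin n) A) : S) := by
    intro p
    induction p using MvPolynomial.induction_on with
    | C a => simp [hTC, MvPolynomial.coe_C]
    | add p q hp hq =>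
      simp only [MvPolynomial.coe_add, map_add, hp, hq, mul_add, Finset.sum_add_distrib]
      abel
    | mul_X p j hp =>
      have hz : ∀ i, φ (C (c i : A)) * φ (C (c j : A)) = 0 := fun i => by
        rw [← map_mul, ← map_mul, MvPowerSeries.map_C, Ideal.Quotient.eq_zero_iff_mem.2, map_zero]
        exact Ideal.pow_le_pow_right (by omega) (pow_add I (k + 1) (k + 1) ▸ Ideal.mul_mem_mul (hc i) (hc j))
      simp only [MvPolynomial.coe_mul, MvPolynomial.coe_X, map_mul, hTX, map_add, hp, MvPolynomial.pderiv_mul,
        MvPolynomial.coe_add, MvPolynomial.pderiv_X, mul_add, Finset.sum_add_distrib, add_mul, Finset.sum_mul]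
      have h1 : ∑ i, φ (C (c i : A)) * φ ((MvPolynomial.pderiv i p : MvPolynomial (Fin n) A) : S) * φ (C (c j : A)) = 0 :=
        Finset.sum_eq_zero fun i _ => by rw [mul_right_comm, hz i, zero_mul]
      have h2 : ∑ i, φ (C (c i : A)) * (φ (p : S) * φ ((Pi.single (M := fun _ => MvPolynomial (Fin n) A) i 1 j : MvPolynomial (Fin n) A) : S)) =
          φ (p : S) * φ (C (c j : A)) := by
        rw [Finset.sum_eq_single j]
        · rw [Pi.single_eq_same, MvPolynomial.coe_one, map_one, mul_one, mul_comm]
        · intro i _ hi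
          rw [Pi.single_eq_of_ne (Ne.symm hi), MvPolynomial.coe_zero, map_zero, mul_zero, mul_zero]
        · simp
      rw [h1, h2]
      simp only [mul_assoc]
      abel
  have := congrArg (coeff e) (key p)
  simp only [φ, map_add, map_sum, MvPowerSeries.map_C, coeff_map, coeff_C_mul] at this
  simp only [← map_mul, ← map_sum, ← map_add] at this
  rw [Ideal.Quotient.eq] at this
  show coeff e (T c (p : S)) - coeff e (p : S) - _ ∈ _
  convert this using 1
  simp only [MvPolynomial.coeff_coe, MvPolynomial.coeff_pderiv]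
  rw [sub_sub]
  congr 2
  refine Finset.sum_congr rfl fun i _ => ?_
  ring

end Groth.Agent.Morse
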