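import Mathlib
import Groth.Agent.Morse.Quad
import Groth.Agent.Morse.Translate

/-! Moving the critical point of a power series with non-degenerate quadratic part to the origin. -/

set_option autoImplicit false
namespace Groth.Agent.Morse

open MvPowerSeries
open Finsupp (single)

universe u
variable {A : Type u} [CommRing A] {n : ℕ}

local notation "S" => MvPowerSeries (Fin n) A

theorem single_add_single_eq {i j i' j' : Fin n} (hij : i ≤ j) (hij' : i' ≤ j')
    (h : single i 1 + single j 1 = single i' 1 + single j' 1) : i = i' ∧ j = j' := by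
  classical
  have e : ∀ x : Fin n, (if i = x then 1 else 0) + (if j = x then 1 else 0) =
      (if i' = x then 1 else 0) + (if j' = x then 1 else 0) := fun x => by
    simpa [Finsupp.single_apply] using DFunLike.congr_fun h x
  have h1 := e i
  have h2 := e j
  have h3 := e i'
  have h4 := e j'
  have h5 : i = i' ∨ i = j' := by
    by_contra hc; push_neg at hc
    simp [Ne.symm hc.1, Ne.symm hc.2] at h1; try (split_ifs at h1 <;> omega)
  have h6 : i' = i ∨ i' = j := by
    by_contra hc; push_neg at hc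
    simp [Ne.symm hc.1, Ne.symm hc.2] at h3; try (split_ifs at h3 <;> omega)
  have h7 : j = i' ∨ j = j' := by
    by_contra hc; push_neg at hc
    simp [Ne.symm hc.1, Ne.symm hc.2] at h2; try (split_ifs at h2 <;> omega)
  have h8 : j' = i ∨ j' = j := by
    by_contra hc; push_neg at hc
    simp [Ne.symm hc.1, Ne.symm hc.2] at h4; try (split_ifs at h4 <;> omega)
  have hi : i = i' := by
    rcases h5 with h | h
    · exact h
    · rcases h6 with h' | h'
      · exact h'.symm
      · exact le_antisymm (h' ▸ hij) (h ▸ hij')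
  refine ⟨hi, ?_⟩
  rcases h7 with h | h
  · rcases h8 with h' | h'
    · rw [h, h', hi]
    · exact h'.symm
  · exact h

theorem coeff_quad (q : Fin n → Fin n → A) (e : Fin n →₀ ℕ) :
    coeff e ((VanCyc.quadPoly q : MvPolynomial (Fin n) A) : S) =
      ∑ i : Fin n, ∑ j : Fin n, if i ≤ j ∧ single i 1 + single j 1 = e then q i j else 0 := by
  classical
  rw [MvPolynomial.coeff_coe, VanCyc.quadPoly, MvPolynomial.coeff_sum]
  refine Finset.sum_congr rfl fun i _ => ?_
  rw [MvPolynomial.coeff_sum]
  refine Finset.sum_congr rfl fun j _ => ?_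
  by_cases h : i ≤ j
  · simp [h, MvPolynomial.X, MvPolynomial.C_mul_monomial, MvPolynomial.monomial_mul, MvPolynomial.coeff_monomial]
  · simp [h]

theorem coeff_quad_single_add (q : Fin n → Fin n → A) {i j : Fin n} (hij : i ≤ j) :
    coeff (single i 1 + single j 1) ((VanCyc.quadPoly q : MvPolynomial (Fin n) A) : S) = q i j := by
  rw [coeff_quad, Finset.sum_eq_single i, Finset.sum_eq_single j]
  · rw [if_pos ⟨hij, rfl⟩]
  · exact fun x _ hx => if_neg fun h => hx (single_add_single_eq h.1 hij h.2).2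
  · simp
  · exact fun x _ hx => Finset.sum_eq_zero fun y _ => if_neg fun h => hx (single_add_single_eq h.1 hij h.2).1
  · simp

theorem coeff_quad_of_deg_lt (q : Fin n → Fin n → A) {e : Fin n →₀ ℕ} (he : e.degree < 2) :
    coeff e ((VanCyc.quadPoly q : MvPolynomial (Fin n) A) : S) = 0 := by
  rw [coeff_quad]
  refine Finset.sum_eq_zero fun i _ => Finset.sum_eq_zero fun j _ => if_neg fun h => ?_
  rw [← h.2, map_add, Finsupp.degree_single, Finsupp.degree_single] at he
  omega

theorem exists_pair {e : Fin n →₀ ℕ} (he : e.degree = 2) : ∃ i j, i ≤ j ∧ e = single i 1 + single j 1 := by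
  obtain ⟨i, e', rfl, he'⟩ := exists_single_add (n := 1) he
  obtain ⟨j, e'', rfl, he''⟩ := exists_single_add (n := 0) he'
  obtain rfl := (Finsupp.degree_eq_zero_iff e'').1 he''
  rw [add_zero]
  rcases le_total i j with h | h
  · exact ⟨i, j, h, rfl⟩
  · exact ⟨j, i, h, add_comm _ _⟩

/-- The quadratic coefficient table of a power series. -/
noncomputable def qTab (G : S) : Fin n → Fin n → A := fun i j => coeff (single i 1 + single j 1) G

theorem hess_eq (G : S) (i j : Fin n) :
    ((single i 1 j : ℕ) : A) * qTab G i j + qTab G i j = VanCyc.polarMatrix (qTab G) i j := by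
  unfold VanCyc.polarMatrix qTab
  rcases eq_or_ne i j with rfl | h
  · simp [two_mul]
  · rw [Finsupp.single_eq_of_ne h.symm, if_neg h]
    simp only [Nat.cast_zero, zero_mul, zero_add]
    split_ifs
    · rfl
    · rw [add_comm]

theorem morse_adic [IsLocalRing A] [IsAdicComplete (IsLocalRing.maximalIdeal A) A] (q : Fin n → Fin n → A)
    (hq : VanCyc.QuadNondeg q) (a : A) (ha : a ∈ IsLocalRing.maximalIdeal A) (ℓ : Fin n → A)
    (hℓ : ∀ i, ℓ i ∈ IsLocalRing.maximalIdeal A) (F : S)
    (hF : ∀ e : Fin n →₀ ℕ, e.degree ≤ 2 → coeff e F = coeff e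
      ((VanCyc.quadPoly q + ∑ i, MvPolynomial.C (ℓ i) * MvPolynomial.X i + MvPolynomial.C a : MvPolynomial (Fin n) A) : S)) :
    ∃ (a' : A) (q' : Fin n → Fin n → A), a' ∈ IsLocalRing.maximalIdeal A ∧ VanCyc.QuadNondeg q' ∧
      Nonempty ((S ⧸ Ideal.span {F}) ≃ₐ[A]
        (S ⧸ Ideal.span {((VanCyc.quadPoly q' + MvPolynomial.C a' : MvPolynomial (Fin n) A) : S)})) := by
  classical
  set I := IsLocalRing.maximalIdeal A
  obtain ⟨tr, htr, hlin⟩ := exists_translate I (n := n)
  -- first order estimate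
  have hlin1 : ∀ (k : ℕ) (c : Fin n → I), (∀ i, (c i : A) ∈ I ^ (k + 1)) → ∀ (G : S) (e : Fin n →₀ ℕ),
      coeff e (tr c G) - coeff e G ∈ I ^ (k + 1) := by
    intro k c hc G e
    have h := Ideal.pow_le_pow_right (show k + 1 ≤ k + 2 by omega) (hlin k c hc G e)
    have h' : ∑ i, ((e i : A) + 1) * ((c i : A) * coeff (e + single i 1) G) ∈ I ^ (k + 1) :=
      Ideal.sum_mem _ fun i _ => Ideal.mul_mem_left _ _ (Ideal.mul_mem_right _ _ (hc i))
    simpa using Ideal.add_mem _ h h'
  have hlt : ∀ e : Fin n →₀ ℕ, e.degree < 2 → coeff e F = coeff e ((∑ i, MvPolynomial.C (ℓ i) * MvPolynomial.X i + MvPolynomial.C a : MvPolynomial (Fin n) A) : S) := by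
    intro e he
    rw [hF e he.le, MvPolynomial.coe_add, MvPolynomial.coe_add, map_add, map_add, coeff_quad_of_deg_lt q he, zero_add,
      ← map_add, ← MvPolynomial.coe_add]
  have hq0 : ∀ i j, i ≤ j → qTab F i j = q i j := by
    intro i j hij
    have hd : (single i 1 + single j 1).degree = 2 := by simp [map_add]
    rw [qTab, hF _ hd.le, MvPolynomial.coe_add, MvPolynomial.coe_add, map_add, map_add, coeff_quad_single_add q hij]
    simp only [MvPolynomial.coeff_coe, MvPolynomial.coeff_sum, MvPolynomial.coeff_C_mul, MvPolynomial.coeff_C,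
      MvPolynomial.coeff_X']
    rw [if_neg (fun h => by rw [← h] at hd; simp at hd)]
    rw [Finset.sum_eq_zero, add_zero, add_zero]
    intro x _
    rw [if_neg (fun h => by rw [← h] at hd; simp at hd), mul_zero]
  have hℓ0 : ∀ i, coeff (single i 1) F = ℓ i := fun i => by
    rw [hlt _ (by simp)]
    simp [MvPolynomial.coeff_coe, MvPolynomial.coeff_sum, MvPowerSeries.coeff_C, MvPolynomial.coeff_X',
      Finsupp.single_left_inj]
  have ha0 : coeff 0 F = a := by
    rw [hlt _ (by simp)]
    simp [MvPolynomial.coeff_coe, MvPolynomial.coeff_sum, MvPolynomial.coeff_X', MvPowerSeries.coeff_C, -coeff_zero_eq_constantCoeff]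
  have hP : ∀ i j, VanCyc.polarMatrix (qTab F) i j = VanCyc.polarMatrix q i j := fun i j => by
    unfold VanCyc.polarMatrix
    split_ifs with h1 h2
    · rw [hq0 i i le_rfl]
    · rw [hq0 i j h2.le]
    · rw [hq0 j i (not_lt.1 h2)]
  have hpol : ∀ (c : Fin n → I) i j, VanCyc.polarMatrix (qTab (tr c F)) i j - VanCyc.polarMatrix q i j ∈ I := by
    intro c i j
    rw [← hP, ← hess_eq, ← hess_eq, add_sub_add_comm, ← mul_sub]
    have := hlin1 0 c (fun i => by simpa using (c i).2) F (single i 1 + single j 1)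
    rw [zero_add, pow_one] at this
    exact Ideal.add_mem _ (Ideal.mul_mem_left _ _ this) this
  -- the iteration
  set M := (VanCyc.polarMatrix q)⁻¹
  have step : ∀ (k : ℕ) (c : Fin n → I), (∀ i, coeff (single i 1) (tr c F) ∈ I ^ (k + 1)) →
      ∃ c' : Fin n → I, (∀ i, (c' i : A) - c i ∈ I ^ (k + 1)) ∧ ∀ i, coeff (single i 1) (tr c' F) ∈ I ^ (k + 2) := by
    intro k c hc
    let L := fun i => coeff (single i 1) (tr c F)
    have hmem : ∀ i, -∑ l, M i l * L l ∈ I ^ (k + 1) := fun i =>
      neg_mem (Ideal.sum_mem _ fun l _ => Ideal.mul_mem_left _ _ (hc l))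
    let δ : Fin n → I := fun i => ⟨-∑ l, M i l * L l, Ideal.pow_le_self (by omega) (hmem i)⟩
    refine ⟨c + δ, fun i => by simpa [δ] using hmem i, fun i => ?_⟩
    rw [← htr]
    have h := hlin k δ hmem (tr c F) (single i 1)
    have h0 : ∑ j, VanCyc.polarMatrix q i j * (δ j : A) = -L i := by
      have hMM : VanCyc.polarMatrix q * M = 1 := Matrix.mul_nonsing_inv _ hq
      simp only [δ, mul_neg, Finset.sum_neg_distrib, Finset.mul_sum, neg_inj]
      rw [Finset.sum_comm, Finset.sum_eq_single i]
      · rw [← Finset.sum_congr rfl fun x _ => mul_assoc _ _ _, ← Finset.sum_mul, ← Matrix.mul_apply, hMM,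
          Matrix.one_apply_eq, one_mul]
      · intro l _ hl
        rw [← Finset.sum_congr rfl fun x _ => mul_assoc _ _ _, ← Finset.sum_mul, ← Matrix.mul_apply, hMM,
          Matrix.one_apply_ne hl.symm, zero_mul]
      · simp
    have hsum : ∑ j, (((single i 1 j : ℕ) : A) + 1) * ((δ j : A) * coeff (single i 1 + single j 1) (tr c F)) - -L i
        ∈ I ^ (k + 2) := by
      rw [← h0, ← Finset.sum_sub_distrib]
      refine Ideal.sum_mem _ fun j _ => ?_
      rw [show ∀ x y z : A, (x + 1) * (y * z) = (x * z + z) * y from fun x y z => by ring, ← qTab, hess_eq, ← sub_mul,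
        pow_succ' I (k + 1)]
      exact Ideal.mul_mem_mul (hpol c i j) (hmem j)
    have := Ideal.add_mem _ h hsum
    convert this using 1
    ring
  have start : ∀ i, coeff (single i 1) (tr 0 F) ∈ I ^ (0 + 1) := fun i => by
    have h := hlin1 0 0 (fun _ => zero_mem _) F (single i 1)
    rw [hℓ0] at h
    have h' : ℓ i ∈ I ^ (0 + 1) := by simpa using hℓ i
    simpa using Ideal.add_mem _ h h'
  choose nxt hnxt1 hnxt2 using step
  let sq : ∀ k : ℕ, {c : Fin n → I // ∀ i, coeff (single i 1) (tr c F) ∈ I ^ (k + 1)} := fun k =>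
    Nat.rec ⟨0, start⟩ (fun k c => ⟨nxt k c.1 c.2, hnxt2 k c.1 c.2⟩) k
  have hcs : ∀ k i, ((sq (k + 1)).1 i : A) - (sq k).1 i ∈ I ^ (k + 1) := fun k => hnxt1 k _ _
  have hcauchy : ∀ k l i, ((sq (k + l)).1 i : A) - (sq k).1 i ∈ I ^ (k + 1) := by
    intro k l i
    induction l with
    | zero => simp
    | succ l ih =>
      rw [← sub_add_sub_cancel _ ((sq (k + l)).1 i : A)]
      exact Ideal.add_mem _ (Ideal.pow_le_pow_right (by omega) (hcs (k + l) i)) ih
  have hL : ∀ i, ∃ L : A, ∀ k, ((sq k).1 i : A) - L ∈ I ^ k := fun i => by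
    obtain ⟨L, hL⟩ := IsPrecomplete.prec (I := I) inferInstance (f := fun k => ((sq k).1 i : A)) fun {p r} hpr => by
      rw [SModEq.sub_mem, smul_eq_mul, Ideal.mul_top]
      obtain ⟨l, rfl⟩ := Nat.exists_eq_add_of_le hpr
      rw [← neg_sub]
      exact neg_mem (Ideal.pow_le_pow_right (by omega) (hcauchy p l i))
    exact ⟨L, fun k => by simpa [SModEq.sub_mem] using hL k⟩
  choose Lm hLm using hL
  have hLI : ∀ i, Lm i ∈ I := fun i => by
    have h1 : ((sq 1).1 i : A) - Lm i ∈ I := by simpa using hLm i 1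
    have := Ideal.sub_mem _ ((sq 1).1 i).2 h1
    simpa using this
  let c : Fin n → I := fun i => ⟨Lm i, hLI i⟩
  set G := tr c F with hG
  have hlinear : ∀ i, coeff (single i 1) G = 0 := fun i => by
    refine IsHausdorff.haus (I := I) inferInstance _ fun k => ?_
    rw [SModEq.sub_mem, smul_eq_mul, Ideal.mul_top, sub_zero]
    refine Ideal.pow_le_pow_right (Nat.le_succ k) ?_
    have hd : ∀ j, ((c - (sq (k + 1)).1) j : A) ∈ I ^ (k + 1) := fun j => by
      have := neg_mem (hLm j (k + 1))
      rwa [neg_sub] at this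
    have h := hlin1 k _ hd (tr (sq (k + 1)).1 F) (single i 1)
    rw [htr, add_sub_cancel] at h
    have h2 := Ideal.pow_le_pow_right (show k + 1 ≤ k + 1 + 1 by omega) ((sq (k + 1)).2 i)
    simpa using Ideal.add_mem _ h h2
  refine ⟨coeff 0 G, qTab G, ?_, ?_, ?_⟩
  · have h := hlin1 0 c (fun i => by simpa using hLI i) F 0
    rw [ha0, zero_add, pow_one] at h
    simpa using Ideal.add_mem _ h ha
  · have hmap : (IsLocalRing.residue A).mapMatrix (VanCyc.polarMatrix (qTab G)) =
        (IsLocalRing.residue A).mapMatrix (VanCyc.polarMatrix q) := by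
      ext i j
      exact Ideal.Quotient.eq.2 (hpol c i j)
    unfold VanCyc.QuadNondeg
    refine IsUnit.of_map (IsLocalRing.residue A) _ ?_
    rw [RingHom.map_det, hmap, ← RingHom.map_det]
    exact hq.map _
  obtain ⟨h, -, -, -, ⟨e⟩⟩ := morse (q := qTab G) (a := coeff 0 G) (F := G) (by
      have hmap : (IsLocalRing.residue A).mapMatrix (VanCyc.polarMatrix (qTab G)) =
          (IsLocalRing.residue A).mapMatrix (VanCyc.polarMatrix q) := by
        ext i j
        exact Ideal.Quotient.eq.2 (hpol c i j)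
      refine IsUnit.of_map (IsLocalRing.residue A) _ ?_
      rw [RingHom.map_det, hmap, ← RingHom.map_det]
      exact hq.map _) le_rfl fun d hd => by
    rw [MvPolynomial.coe_add, map_add]
    rcases lt_or_eq_of_le hd with hd | hd
    · rw [coeff_quad_of_deg_lt _ hd, zero_add, MvPolynomial.coe_C, coeff_C]
      rcases Nat.eq_zero_or_pos d.degree with h0 | h0
      · obtain rfl := (Finsupp.degree_eq_zero_iff d).1 h0
        rw [if_pos rfl]
      · obtain ⟨i, d', rfl, hd'⟩ := exists_single_add (n := 0) (e := d) (by omega)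
        obtain rfl := (Finsupp.degree_eq_zero_iff d').1 hd'
        rw [add_zero, hlinear, if_neg (by simp)]
    · obtain ⟨i, j, hij, rfl⟩ := exists_pair hd
      rw [coeff_quad_single_add _ hij, MvPolynomial.coe_C, coeff_C,
        if_neg (fun h => by rw [h, map_zero] at hd; omega), add_zero]
      rfl
  refine ⟨(Ideal.quotientEquivAlg (Ideal.span {F}) (Ideal.span {G}) (tr c) ?_).trans e⟩
  rw [Ideal.map_span, Set.image_singleton]
  rfl

end Groth.Agent.Morse
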