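import Groth.Agent.Morse.Critical
import Groth.Agent.Morse.Quad

/-! Normal form of ordinary quadratic power series over an algebraically closed field, in every
characteristic: a series with ordinary quadratic part is equivalent to an ordinary quadratic form. -/

set_option autoImplicit false
namespace Groth.Agent.Morse

open MvPowerSeries
open Finsupp (single)

universe u

section Split

variable {k : Type u} [Field k] {n : ℕ}

local notation "P" => MvPowerSeries (Fin (n + 1)) k

/-- The linear forms with `Q = c x₀² + ∑ xᵢ Lᵢ` when `x₀` does not occur in mixed terms. -/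
noncomputable def ordLin (q : Fin (n + 1) → Fin (n + 1) → k) (i : Fin (n + 1)) : P :=
  ∑ j, if i ≤ j then C (q i j) * X j else 0

theorem qval_X_split (q : Fin (n + 1) → Fin (n + 1) → k) (h0 : ∀ j, j ≠ 0 → q 0 j = 0) :
    qval q (X : Fin (n + 1) → P) = C (q 0 0) * X 0 * X 0 + ∑ i : Fin n, X i.succ * ordLin q i.succ := by
  unfold qval
  rw [Fin.sum_univ_succ]
  congr 1
  · rw [Finset.sum_eq_single 0]
    · rw [if_pos le_rfl]
    · intro j _ hj
      simp [h0 j hj]
    · simp
  · refine Finset.sum_congr rfl fun i _ => ?_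
    rw [ordLin, Finset.mul_sum]
    refine Finset.sum_congr rfl fun j _ => ?_
    rw [mul_ite, mul_zero]
    split_ifs <;> ring

/-- The error of a substitution and a unit. -/
noncomputable def err₂ (q : Fin (n + 1) → Fin (n + 1) → k) (F : P) (u : P) (h : Fin (n + 1) → P) : P :=
  subst (fun i => X i + h i) F - u * qval q X

/-- The correction of the unit. -/
noncomputable def ucorr (q : Fin (n + 1) → Fin (n + 1) → k) (G : P) : P :=
  C (q 0 0)⁻¹ * dvar 0 (dvar 0 G)

/-- The rest of the error after correcting the unit, divided by the variables. -/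
noncomputable def drest (q : Fin (n + 1) → Fin (n + 1) → k) (G : P) (i : Fin (n + 1)) : P :=
  if i = 0 then 0 else dvar i G + X 0 * dvar i (dvar 0 G) - ucorr q G * ordLin q i

/-- The correction of the substitution. -/
noncomputable def hcorr (q : Fin (n + 1) → Fin (n + 1) → k) (N : Matrix (Fin (n + 1)) (Fin (n + 1)) k) (G : P)
    (i : Fin (n + 1)) : P :=
  -∑ l, C (N i l) * drest q G l

theorem ord_ucorr (q : Fin (n + 1) → Fin (n + 1) → k) {G : P} {d : ℕ} (hd : 1 ≤ d) (h : Ord (d + 1) G) :
    Ord (d - 1) (ucorr q G) := by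
  refine (ord_dvar 0 ?_).mul_left _
  rw [Nat.sub_add_cancel hd]
  exact ord_dvar 0 h

theorem ord_ordLin (q : Fin (n + 1) → Fin (n + 1) → k) (i : Fin (n + 1)) : Ord 1 (ordLin q i) := by
  refine Ord.sum fun j _ => ?_
  split_ifs
  · exact (ord_X j).mul_left _
  · exact Ord.zero

theorem ord_drest (q : Fin (n + 1) → Fin (n + 1) → k) {G : P} {d : ℕ} (hd : 1 ≤ d) (h : Ord (d + 1) G)
    (i : Fin (n + 1)) : Ord d (drest q G i) := by
  unfold drest
  split_ifs
  · exact Ord.zero
  · refine ((ord_dvar i h).add ?_).sub (((ord_ucorr q hd h).mul (ord_ordLin q i)).mono (by omega))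
    exact ((ord_X 0).mul (ord_dvar i (d := d - 1) (by rw [Nat.sub_add_cancel hd]; exact ord_dvar 0 h))).mono
      (by omega)

theorem ord_hcorr (q : Fin (n + 1) → Fin (n + 1) → k) (N : Matrix (Fin (n + 1)) (Fin (n + 1)) k) {G : P}
    {d : ℕ} (hd : 1 ≤ d) (h : Ord (d + 1) G) (i : Fin (n + 1)) : Ord d (hcorr q N G i) :=
  (Ord.sum fun l _ => (ord_drest q hd h l).mul_left _).neg

variable {q : Fin (n + 1) → Fin (n + 1) → k} {N : Matrix (Fin (n + 1)) (Fin (n + 1)) k}

theorem sum_X_mul_drest (hc : q 0 0 ≠ 0) (h0 : ∀ j, j ≠ 0 → q 0 j = 0) {G : P} (hG : Ord 2 G) :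
    ∑ i, X i * drest q G i = G - ucorr q G * qval q X := by
  have e1 : G = X 0 * dvar 0 G + ∑ i : Fin n, X i.succ * dvar i.succ G := by
    conv_lhs => rw [← sum_X_mul_dvar (constantCoeff_of_ord (hG.mono one_le_two))]
    rw [Fin.sum_univ_succ]
  have e2 : dvar 0 G = X 0 * dvar 0 (dvar 0 G) + ∑ i : Fin n, X i.succ * dvar i.succ (dvar 0 G) := by
    conv_lhs => rw [← sum_X_mul_dvar (constantCoeff_of_ord (ord_dvar (d := 1) 0 hG))]
    rw [Fin.sum_univ_succ]
  have e3 : X 0 * X 0 * dvar 0 (dvar 0 G) = ucorr q G * (C (q 0 0) * X 0 * X 0) := by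
    have hC : (C (q 0 0)⁻¹ : P) * C (q 0 0) = 1 := by rw [← map_mul, inv_mul_cancel₀ hc, map_one]
    rw [ucorr]
    linear_combination (-(X 0 * X 0 * dvar 0 (dvar 0 G))) * hC
  rw [Fin.sum_univ_succ, drest, if_pos rfl, mul_zero, zero_add, qval_X_split q h0]
  have e4 : ∀ i : Fin n, X i.succ * drest q G i.succ = X i.succ * dvar i.succ G +
      X 0 * (X i.succ * dvar i.succ (dvar 0 G)) - ucorr q G * (X i.succ * ordLin q i.succ) := fun i => by
    rw [drest, if_neg (Fin.succ_ne_zero i)]
    ring
  simp only [e4, Finset.sum_sub_distrib, Finset.sum_add_distrib, ← Finset.mul_sum]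
  linear_combination (-1 : P) * e1 + (-X 0) * e2 + (-1 : P) * e3

theorem step₂ (hc : q 0 0 ≠ 0) (h0 : ∀ j, j ≠ 0 → q 0 j = 0) (hB : ∀ i, VanCyc.polarMatrix q i 0 = 0)
    (hN : ∀ j l, j ≠ 0 → l ≠ 0 → ∑ i, VanCyc.polarMatrix q i j * N i l = if j = l then 1 else 0)
    {F : P} (hR : Ord 3 (F - ((VanCyc.quadPoly q + MvPolynomial.C 0 : MvPolynomial (Fin (n + 1)) k) : P)))
    {u : P} {h : Fin (n + 1) → P} (hh : ∀ i, Ord 2 (h i)) {d : ℕ} (hd : 2 ≤ d)
    (he : Ord (d + 1) (err₂ q F u h)) :
    Ord (d + 2) (err₂ q F (u + ucorr q (err₂ q F u h)) fun i => h i + hcorr q N (err₂ q F u h) i) := by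
  classical
  set G := err₂ q F u h with hG
  set δ := hcorr q N G with hδdef
  set e := ucorr q G with hedef
  have hδ : ∀ i, Ord d (δ i) := ord_hcorr q N (by omega) he
  have hh' : ∀ i, Ord 2 (h i + δ i) := fun i => (hh i).add ((hδ i).mono hd)
  set T : P := ((VanCyc.quadPoly q + MvPolynomial.C 0 : MvPolynomial (Fin (n + 1)) k) : P) with hT
  set R := F - T with hRdef
  have hsplit : ∀ {g : Fin (n + 1) → P}, (∀ i, Ord 2 (g i)) →
      subst (fun i => X i + g i) F = subst (fun i => X i + g i) R + qval q (fun i => X i + g i) := fun {g} hg => by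
    rw [← add_zero (qval q fun i => X i + g i), ← map_zero (C (σ := Fin (n + 1)) (R := k)),
      ← subst_target (ord_X_add hg), ← subst_add (hasSubst_of_ord (ord_X_add hg))]
    congr 1
    simp [hRdef, hT]
  have h1 : Ord (d + 2) (subst (fun i => X i + (h i + δ i)) R - subst (fun i => X i + h i) R) :=
    Ord.mono (ord_subst_sub (d := d) (r := 3) (ord_X_add hh') (ord_X_add hh)
      (fun i => by rw [add_sub_add_left_eq_sub, add_sub_cancel_left]; exact hδ i) fun b _ hb => hR b hb) (by omega)
  have h2 : Ord (d + 2) (qval q (fun i => X i + (h i + δ i)) - qval q (fun i => X i + h i) -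
      ∑ i, ∑ j, if i ≤ j then C (q i j) * (X i * δ j + X j * δ i) else 0) := by
    simp only [qval, ← Finset.sum_sub_distrib]
    refine Ord.sum fun i _ => Ord.sum fun j _ => ?_
    split_ifs
    · rw [show C (q i j) * (X i + (h i + δ i)) * (X j + (h j + δ j)) - C (q i j) * (X i + h i) * (X j + h j) -
        C (q i j) * (X i * δ j + X j * δ i) = C (q i j) * (h i * δ j + h j * δ i + δ i * δ j) by ring]
      refine Ord.mul_left (Ord.add (Ord.add ?_ ?_) ?_) _
      · exact ((hh i).mul (hδ j)).mono (by omega)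
      · exact ((hh j).mul (hδ i)).mono (by omega)
      · exact ((hδ i).mul (hδ j)).mono (by omega)
    · simpa using Ord.zero
  have h3 : (∑ i, ∑ j, if i ≤ j then C (q i j) * (X i * δ j + X j * δ i) else 0) = -(G - e * qval q X) := by
    rw [polar_symm_sum, Finset.sum_comm, ← sum_X_mul_drest hc h0 (he.mono (by omega)), ← Finset.sum_neg_distrib]
    refine Finset.sum_congr rfl fun j _ => ?_
    by_cases hj : j = 0
    · subst hj
      simp [hB, drest]
    calc ∑ i, C (VanCyc.polarMatrix q i j) * (X j * δ i)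
        = X j * -∑ l, C (∑ i, VanCyc.polarMatrix q i j * N i l) * drest q G l := by
          simp only [hδdef, hcorr, map_sum, map_mul, Finset.sum_mul, Finset.mul_sum, mul_neg,
            Finset.sum_neg_distrib]
          rw [neg_inj, Finset.sum_comm]
          exact Finset.sum_congr rfl fun _ _ => Finset.sum_congr rfl fun _ _ => by ring
      _ = -(X j * drest q G j) := by
          rw [mul_neg, Finset.sum_eq_single j]
          · rw [hN j j hj hj, if_pos rfl, map_one, one_mul]
          · intro l _ hl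
            by_cases hl0 : l = 0
            · simp [hl0, drest]
            · rw [hN j l hj hl0, if_neg (Ne.symm hl), map_zero, zero_mul]
          · simp
  have key : err₂ q F (u + e) (fun i => h i + δ i) =
      (subst (fun i => X i + (h i + δ i)) R - subst (fun i => X i + h i) R) +
        (qval q (fun i => X i + (h i + δ i)) - qval q (fun i => X i + h i) -
          ∑ i, ∑ j, if i ≤ j then C (q i j) * (X i * δ j + X j * δ i) else 0) := by
    rw [h3, hG, err₂, err₂, hsplit hh, hsplit hh']
    ring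
  rw [key]
  exact h1.add h2

/-- The sequence of approximate unit and substitution. -/
noncomputable def seq₂ (q : Fin (n + 1) → Fin (n + 1) → k) (N : Matrix (Fin (n + 1)) (Fin (n + 1)) k) (F : P) :
    ℕ → P × (Fin (n + 1) → P)
  | 0 => (1, fun _ => 0)
  | j + 1 => ((seq₂ q N F j).1 + ucorr q (err₂ q F (seq₂ q N F j).1 (seq₂ q N F j).2),
      fun i => (seq₂ q N F j).2 i + hcorr q N (err₂ q F (seq₂ q N F j).1 (seq₂ q N F j).2) i)

theorem seq₂_ord (hc : q 0 0 ≠ 0) (h0 : ∀ j, j ≠ 0 → q 0 j = 0) (hB : ∀ i, VanCyc.polarMatrix q i 0 = 0)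
    (hN : ∀ j l, j ≠ 0 → l ≠ 0 → ∑ i, VanCyc.polarMatrix q i j * N i l = if j = l then 1 else 0)
    {F : P} (hR : Ord 3 (F - ((VanCyc.quadPoly q + MvPolynomial.C 0 : MvPolynomial (Fin (n + 1)) k) : P))) :
    ∀ j, (∀ i, Ord 2 ((seq₂ q N F j).2 i)) ∧ Ord 1 ((seq₂ q N F j).1 - 1) ∧
      Ord (2 + j + 1) (err₂ q F (seq₂ q N F j).1 (seq₂ q N F j).2)
  | 0 => ⟨fun _ => Ord.zero, by simpa [seq₂] using Ord.zero, by
      have : (fun i => (X i : P) + (seq₂ q N F 0).2 i) = X := funext fun i => add_zero _
      rw [err₂, this, subst_self, show (seq₂ q N F 0).1 = 1 from rfl, one_mul]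
      rw [target_eq, map_zero, add_zero] at hR
      exact hR⟩
  | j + 1 => by
      obtain ⟨h1, h2, h3⟩ := seq₂_ord hc h0 hB hN hR j
      refine ⟨fun i => (h1 i).add ((ord_hcorr q N (by omega) h3 i).mono (by omega)), ?_, ?_⟩
      · show Ord 1 ((seq₂ q N F j).1 + ucorr q _ - 1)
        rw [add_sub_right_comm]
        exact h2.add ((ord_ucorr q (d := 2 + j) (by omega) h3).mono (by omega))
      · exact (step₂ hc h0 hB hN hR h1 (d := 2 + j) (by omega) h3).mono (by omega)

/-- A series with quadratic part `c x₀² + Q'(x')`, `Q'` non-degenerate, is equivalent to it up to a unit. -/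
theorem exists_subst_eq_unit (hc : q 0 0 ≠ 0) (h0 : ∀ j, j ≠ 0 → q 0 j = 0)
    (hB : ∀ i, VanCyc.polarMatrix q i 0 = 0)
    (hN : ∀ j l, j ≠ 0 → l ≠ 0 → ∑ i, VanCyc.polarMatrix q i j * N i l = if j = l then 1 else 0)
    {F : P} (hR : Ord 3 (F - ((VanCyc.quadPoly q + MvPolynomial.C 0 : MvPolynomial (Fin (n + 1)) k) : P))) :
    ∃ (h : Fin (n + 1) → P) (u : P), (∀ i, Ord 2 (h i)) ∧ IsUnit u ∧
      subst (fun i => X i + h i) F = u * ((VanCyc.quadPoly q : MvPolynomial (Fin (n + 1)) k) : P) := by
  have hseq := seq₂_ord hc h0 hB hN hR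
  let h : Fin (n + 1) → P := fun i => lim fun j => (seq₂ q N F j).2 i
  let u : P := lim fun j => (seq₂ q N F j).1
  have hlimh : ∀ j i, Ord (2 + j) (h i - (seq₂ q N F j).2 i) := fun j i => ord_lim_sub (fun j => by
    show Ord _ ((seq₂ q N F j).2 i + hcorr q N _ i - (seq₂ q N F j).2 i)
    rw [add_sub_cancel_left]
    exact ord_hcorr q N (by omega) (hseq j).2.2 i) j
  have hlimu : ∀ j, Ord (1 + j) (u - (seq₂ q N F j).1) := fun j => ord_lim_sub (fun j => by
    show Ord _ ((seq₂ q N F j).1 + ucorr q _ - (seq₂ q N F j).1)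
    rw [add_sub_cancel_left]
    exact (ord_ucorr q (d := 2 + j) (by omega) (hseq j).2.2).mono (by omega)) j
  have hh : ∀ i, Ord 2 (h i) := fun i => by
    have := hlimh 0 i
    rwa [show (seq₂ q N F 0).2 i = 0 from rfl, sub_zero] at this
  have hu : IsUnit u := by
    rw [MvPowerSeries.isUnit_iff_constantCoeff]
    have := constantCoeff_of_ord (hlimu 0)
    rw [show (seq₂ q N F 0).1 = 1 from rfl, map_sub, map_one, sub_eq_zero] at this
    rw [this]
    exact isUnit_one
  refine ⟨h, u, hh, hu, sub_eq_zero.1 (eq_zero_of_ord fun d => ?_)⟩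
  have hT : ((VanCyc.quadPoly q : MvPolynomial (Fin (n + 1)) k) : P) = qval q X := by
    simpa using target_eq (q := q) (a := 0)
  rw [hT, ← sub_add_cancel (subst (fun i => X i + h i) F - _) (err₂ q F (seq₂ q N F d).1 (seq₂ q N F d).2)]
  refine Ord.add ?_ ((hseq d).2.2.mono (by omega))
  rw [err₂, show subst (fun i => X i + h i) F - u * qval q X -
      (subst (fun i => X i + (seq₂ q N F d).2 i) F - (seq₂ q N F d).1 * qval q X) =
      (subst (fun i => X i + h i) F - subst (fun i => X i + (seq₂ q N F d).2 i) F) -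
      (u - (seq₂ q N F d).1) * qval q X by ring]
  refine Ord.sub (Ord.mono (ord_subst_sub (d := 2 + d) (r := 1) (ord_X_add hh) (ord_X_add (hseq d).1)
    (fun i => ?_) fun b hb h1 => ?_) (by omega)) ?_
  · rw [add_sub_add_left_eq_sub]; exact hlimh d i
  · exact absurd ((Finsupp.degree_eq_zero_iff b).1 (by omega)) hb
  · exact ((hlimu d).mul ord_zero_deg).mono (by omega)

end Split

section Linear

variable {k : Type u} [Field k] {n : ℕ}

local notation "P" => MvPowerSeries (Fin n) k

/-- The upper triangular matrix of a coefficient table. -/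
noncomputable def triMatrix (q : Fin n → Fin n → k) : Matrix (Fin n) (Fin n) k :=
  fun i j => if i ≤ j then q i j else 0

theorem polarMatrix_eq (q : Fin n → Fin n → k) :
    VanCyc.polarMatrix q = triMatrix q + (triMatrix q).transpose := by
  ext i j
  simp only [VanCyc.polarMatrix, Matrix.add_apply, Matrix.transpose_apply, triMatrix]
  rcases lt_trichotomy i j with h | h | h
  · rw [if_neg (ne_of_lt h), if_pos h, if_pos h.le, if_neg (not_le.2 h), add_zero]
  · subst h; simp [two_mul]
  · rw [if_neg (ne_of_gt h), if_neg (not_lt.2 h.le), if_neg (not_le.2 h), if_pos h.le, zero_add]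

/-- The coefficient table of `∑ M i j xᵢ xⱼ`. -/
noncomputable def foldTab (M : Matrix (Fin n) (Fin n) k) : Fin n → Fin n → k :=
  fun i j => if i = j then M i j else M i j + M j i

theorem polarMatrix_foldTab (M : Matrix (Fin n) (Fin n) k) :
    VanCyc.polarMatrix (foldTab M) = M + M.transpose := by
  ext i j
  simp only [VanCyc.polarMatrix, foldTab, Matrix.add_apply, Matrix.transpose_apply]
  rcases lt_trichotomy i j with h | h | h
  · simp [ne_of_lt h, h]
  · subst h; simp [two_mul]
  · simp [ne_of_gt h, ne_of_lt h, not_lt.2 h.le, add_comm]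

theorem qval_foldTab {σ : Type*} (M : Matrix (Fin n) (Fin n) k) (v : Fin n → MvPowerSeries σ k) :
    (∑ i, ∑ j, if i ≤ j then C (foldTab M i j) * v i * v j else 0) = ∑ i, ∑ j, C (M i j) * v i * v j := by
  classical
  have h1 : ∀ i j, (if i ≤ j then C (foldTab M i j) * v i * v j else 0) =
      (if i ≤ j then C (M i j) * v i * v j else 0) + (if i < j then C (M j i) * v i * v j else 0) := fun i j => by
    simp only [foldTab]
    rcases lt_trichotomy i j with h | h | h
    · rw [if_pos h.le, if_neg (ne_of_lt h), if_pos h.le, if_pos h, map_add]; ring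
    · subst h; simp
    · simp [not_le.2 h, not_lt.2 h.le]
  simp only [h1, Finset.sum_add_distrib]
  rw [add_comm, Finset.sum_comm (f := fun i j => if i < j then C (M j i) * v i * v j else 0),
    ← Finset.sum_add_distrib]
  refine Finset.sum_congr rfl fun i _ => ?_
  rw [← Finset.sum_add_distrib]
  refine Finset.sum_congr rfl fun j _ => ?_
  rcases lt_trichotomy i j with h | h | h
  · simp [h.le, not_lt.2 h.le]
  · subst h; simp
  · simp [not_le.2 h, h]; ring

theorem qval_tri (q : Fin n → Fin n → k) (v : Fin n → P) :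
    qval q v = ∑ i, ∑ j, C (triMatrix q i j) * v i * v j := by
  unfold qval
  refine Finset.sum_congr rfl fun i _ => Finset.sum_congr rfl fun j _ => ?_
  unfold triMatrix
  split_ifs <;> simp

/-- The linear substitution given by a matrix. -/
noncomputable def linSub (L : Matrix (Fin n) (Fin n) k) (i : Fin n) : P := ∑ s, C (L i s) * X s

theorem ord_linSub (L : Matrix (Fin n) (Fin n) k) (i : Fin n) : Ord 1 (linSub L i) :=
  Ord.sum fun s _ => (ord_X s).mul_left _

theorem qval_linSub (q : Fin n → Fin n → k) (L : Matrix (Fin n) (Fin n) k) :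
    qval q (linSub L) = qval (foldTab (L.transpose * triMatrix q * L)) X := by
  rw [qval_tri, show qval (foldTab (L.transpose * triMatrix q * L)) (X : Fin n → P) = _ from
    qval_foldTab (L.transpose * triMatrix q * L) X]
  simp only [linSub, Finset.sum_mul, Finset.mul_sum, Matrix.mul_apply, Matrix.transpose_apply, map_sum, map_mul]
  refine Eq.trans ?_ Finset.sum_comm
  rw [Finset.sum_comm_cycle]
  refine Finset.sum_congr rfl fun s _ => ?_
  rw [Finset.sum_comm_cycle]
  refine Finset.sum_congr rfl fun t _ => ?_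
  rw [Finset.sum_comm]
  exact Finset.sum_congr rfl fun i _ => Finset.sum_congr rfl fun j _ => by ring

/-- An invertible linear substitution is an automorphism. -/
theorem linSub_bijective (L : Matrix (Fin n) (Fin n) k) (hL : IsUnit L.det) :
    Function.Bijective (subst (R := k) (linSub L)) := by
  have key : ∀ (A B : Matrix (Fin n) (Fin n) k), A * B = 1 → ∀ f : P,
      subst (linSub B) (subst (linSub A) f) = f := fun A B hAB f => by
    have hb := hasSubst_of_ord (ord_linSub B)
    rw [subst_comp_subst_apply (hasSubst_of_ord (ord_linSub A)) hb,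
      show (fun s => subst (linSub B) (linSub A s)) = MvPowerSeries.X from funext fun s => ?_, subst_self, id_eq]
    rw [← coe_substAlgHom hb, linSub, map_sum]
    simp only [map_mul, coe_substAlgHom hb, subst_C, subst_X hb]
    simp only [linSub, Finset.mul_sum]
    rw [Finset.sum_comm]
    have : ∀ t, ∑ j, C (A s j) * (C (B j t) * X t) = (C ((A * B) s t) * X t : P) := fun t => by
      rw [Matrix.mul_apply, map_sum, Finset.sum_mul]
      exact Finset.sum_congr rfl fun j _ => by rw [map_mul, mul_assoc]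
    simp [this, hAB, Matrix.one_apply, apply_ite C, ite_mul]
  exact ⟨fun a b h => by rw [← key L L⁻¹ (Matrix.mul_nonsing_inv L hL) a, h, key L L⁻¹ (Matrix.mul_nonsing_inv L hL) b],
    fun f => ⟨subst (linSub L⁻¹) f, key L⁻¹ L (Matrix.nonsing_inv_mul L hL) f⟩⟩

theorem quadEval_eq_dotProduct (q : Fin n → Fin n → k) (v : Fin n → k) :
    VanCyc.quadEval q v = dotProduct v ((triMatrix q).mulVec v) := by
  simp only [VanCyc.quadEval, dotProduct, Matrix.mulVec, Finset.mul_sum]
  refine Finset.sum_congr rfl fun i _ => Finset.sum_congr rfl fun j _ => ?_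
  unfold triMatrix
  split_ifs <;> ring

/-- On an algebraically closed field the kernel of the polar form of an ordinary quadratic form is at most
a line. -/
theorem exists_smul_of_mem_ker [IsAlgClosed k] {q : Fin n → Fin n → k} (hq : VanCyc.QuadOrd q) {v w : Fin n → k}
    (hv0 : v ≠ 0) (hv : (VanCyc.polarMatrix q).mulVec v = 0) (hw : (VanCyc.polarMatrix q).mulVec w = 0) :
    ∃ c : k, w = c • v := by
  have hQv : VanCyc.quadEval q v ≠ 0 := fun h => hv0 (hq v h hv)
  obtain ⟨s, hs⟩ := IsAlgClosed.exists_pow_nat_eq (-VanCyc.quadEval q w / VanCyc.quadEval q v) two_pos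
  refine ⟨-s, ?_⟩
  have h := hq (s • v + w) ?_ (by rw [Matrix.mulVec_add, Matrix.mulVec_smul, hv, hw, smul_zero, add_zero])
  · rw [neg_smul]
    exact eq_neg_of_add_eq_zero_right h
  · have hB : dotProduct v ((triMatrix q).mulVec w) + dotProduct w ((triMatrix q).mulVec v) = 0 := by
      have h1 : dotProduct v ((VanCyc.polarMatrix q).mulVec w) = 0 := by rw [hw, dotProduct_zero]
      rw [polarMatrix_eq, Matrix.add_mulVec, dotProduct_add] at h1
      rwa [Matrix.dotProduct_mulVec w, dotProduct_comm _ v, ← Matrix.mulVec_transpose]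
    have key : VanCyc.quadEval q (s • v + w) = s ^ 2 * VanCyc.quadEval q v + VanCyc.quadEval q w := by
      simp only [quadEval_eq_dotProduct, Matrix.mulVec_add, Matrix.mulVec_smul, add_dotProduct, dotProduct_add,
        smul_dotProduct, dotProduct_smul, smul_eq_mul]
      linear_combination s * hB
    rw [key, hs, div_mul_cancel₀ _ hQv, neg_add_cancel]

end Linear

section Main

variable {k : Type u} [Field k] [IsAlgClosed k] {n : ℕ}

theorem ord_three_of_noLow {f : MvPowerSeries (Fin n) k} (hf : VanCyc.NoLowTerms f) :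
    Ord 3 (f - ((VanCyc.quadPoly (VanCyc.quadPart f) + MvPolynomial.C 0 : MvPolynomial (Fin n) k) :
      MvPowerSeries (Fin n) k)) := by
  intro e he
  rw [map_sub, sub_eq_zero, map_zero, add_zero]
  rcases Nat.lt_or_ge e.degree 2 with h | h
  · rw [coeff_quad_of_deg_lt _ h]
    rcases Nat.eq_zero_or_pos e.degree with h0 | h0
    · rw [(Finsupp.degree_eq_zero_iff e).1 h0, coeff_zero_eq_constantCoeff_apply]
      exact hf.1
    · obtain ⟨i, e', rfl, he'⟩ := exists_single_add (n := 0) (show e.degree = 0 + 1 by omega)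
      rw [(Finsupp.degree_eq_zero_iff e').1 he', add_zero]
      exact hf.2 i
  · obtain ⟨i, j, hij, rfl⟩ := exists_pair (show e.degree = 2 by omega)
    rw [coeff_quad_single_add _ hij]
    rcases eq_or_ne i j with rfl | hne
    · simp [VanCyc.quadPart, ← Finsupp.single_add]
    · simp [VanCyc.quadPart, hne, lt_of_le_of_ne hij hne]

/-- A series with ordinary quadratic part is equivalent to an ordinary quadratic form. -/
theorem exists_ord_normal_form (f : MvPowerSeries (Fin (n + 1)) k) (hf : VanCyc.OrdQuadSeries f) :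
    ∃ a : Fin (n + 1) → Fin (n + 1) → k, VanCyc.QuadOrd a ∧
      Nonempty ((MvPowerSeries (Fin (n + 1)) k ⧸ Ideal.span {f}) ≃ₐ[k] (MvPowerSeries (Fin (n + 1)) k ⧸
        Ideal.span {((VanCyc.quadPoly a : MvPolynomial (Fin (n + 1)) k) : MvPowerSeries (Fin (n + 1)) k)})) := by
  classical
  obtain ⟨hlow, hord⟩ := hf
  set q := VanCyc.quadPart f with hqdef
  have hR := ord_three_of_noLow hlow
  rw [← hqdef] at hR
  by_cases hdet : IsUnit (VanCyc.polarMatrix q).det
  · refine ⟨q, hord, ?_⟩
    obtain ⟨_, _, _, _, he⟩ := morse (q := q) (a := 0) (F := f) hdet (m := 2) le_rfl fun e he => by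
      rw [← sub_eq_zero, ← map_sub]
      exact hR e (by omega)
    have hz : VanCyc.quadPoly q + MvPolynomial.C (0 : k) = VanCyc.quadPoly q := by rw [MvPolynomial.C_0, add_zero]
    rw [hz] at he
    exact he
  obtain ⟨v, hv0, hv⟩ := Matrix.exists_mulVec_eq_zero_iff.2 (by rwa [isUnit_iff_ne_zero, not_not] at hdet)
  obtain ⟨i₀, hi₀⟩ := Function.ne_iff.1 hv0
  let p : Equiv.Perm (Fin (n + 1)) := Equiv.swap 0 i₀
  let L : Matrix (Fin (n + 1)) (Fin (n + 1)) k := fun i j => if j = 0 then v i else if i = p j then 1 else 0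
  have hLv : ∀ c : k, L.mulVec (Pi.single 0 c) = c • v := fun c => by
    ext i
    simp only [Matrix.mulVec, dotProduct]
    rw [Finset.sum_eq_single 0]
    · simp [L, mul_comm]
    · intro j _ hj; simp [hj]
    · simp
  have hLi : Function.Injective L.mulVec := by
    intro x y hxy
    rw [← sub_eq_zero]
    rw [← sub_eq_zero, ← Matrix.mulVec_sub] at hxy
    set w := x - y
    have hrow : ∀ i, v i * w 0 + ∑ j : Fin n, (if i = p j.succ then w j.succ else 0) = 0 := fun i => by
      have := congrFun hxy i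
      simpa [Matrix.mulVec, dotProduct, Fin.sum_univ_succ, L, Fin.succ_ne_zero, ite_mul] using this
    have hw0 : w 0 = 0 := by
      have := hrow i₀
      rw [Finset.sum_eq_zero, add_zero] at this
      · exact (mul_eq_zero.1 this).resolve_left hi₀
      · intro j _
        rw [if_neg]
        intro h
        have h2 : p 0 = p j.succ := (Equiv.swap_apply_left 0 i₀).trans h
        exact Fin.succ_ne_zero j (p.injective h2).symm
    ext j
    refine Fin.cases hw0 (fun j => ?_) j
    have := hrow (p j.succ)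
    rw [hw0, mul_zero, zero_add, Finset.sum_eq_single j] at this
    · simpa using this
    · intro l _ hl
      exact if_neg fun h => hl (Fin.succ_injective _ (p.injective h)).symm
    · simp
  have hL : IsUnit L.det := (Matrix.isUnit_iff_isUnit_det L).1 (Matrix.mulVec_injective_iff_isUnit.1 hLi)
  let M := L.transpose * triMatrix q * L
  let a := foldTab M
  have hB : VanCyc.polarMatrix a = L.transpose * VanCyc.polarMatrix q * L := by
    rw [show a = foldTab M from rfl, polarMatrix_foldTab, polarMatrix_eq q, Matrix.transpose_mul,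
      Matrix.transpose_mul, Matrix.transpose_transpose, ← Matrix.mul_assoc, Matrix.mul_add, Matrix.add_mul]
  have hBker : ∀ w, (VanCyc.polarMatrix a).mulVec w = 0 → ∃ c, w = Pi.single 0 c := fun w hw => by
    rw [hB, ← Matrix.mulVec_mulVec, ← Matrix.mulVec_mulVec] at hw
    have hLT : Function.Injective L.transpose.mulVec := Matrix.mulVec_injective_iff_isUnit.2
      ((Matrix.isUnit_iff_isUnit_det _).2 (by rwa [Matrix.det_transpose]))
    have h2 := hLT (hw.trans (Matrix.mulVec_zero _).symm)
    obtain ⟨c, hc⟩ := exists_smul_of_mem_ker hord hv0 hv h2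
    exact ⟨c, hLi (hc.trans (hLv c).symm)⟩
  have hBe : (VanCyc.polarMatrix a).mulVec (Pi.single 0 1) = 0 := by
    rw [hB, ← Matrix.mulVec_mulVec, ← Matrix.mulVec_mulVec, hLv, one_smul, hv, Matrix.mulVec_zero]
  have hcol : ∀ i, VanCyc.polarMatrix a i 0 = 0 := fun i => by simpa using congrFun hBe i
  have hsym : ∀ i j, VanCyc.polarMatrix a i j = VanCyc.polarMatrix a j i := fun i j => by
    simp [show a = foldTab M from rfl, polarMatrix_foldTab, add_comm]
  have ha00 : a 0 0 = VanCyc.quadEval q v := by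
    rw [quadEval_eq_dotProduct]
    have hL0 : ∀ i, L i 0 = v i := fun i => by simp [L]
    simp only [a, foldTab, if_true, M, Matrix.mul_apply, Matrix.transpose_apply, dotProduct, Matrix.mulVec, hL0,
      Finset.sum_mul, Finset.mul_sum]
    rw [Finset.sum_comm]
    exact Finset.sum_congr rfl fun i _ => Finset.sum_congr rfl fun j _ => by ring
  have hc : a 0 0 ≠ 0 := by
    rw [ha00]
    exact fun h => hv0 (hord v h hv)
  have h0 : ∀ j, j ≠ 0 → a 0 j = 0 := fun j hj => by
    have h := hsym 0 j
    rw [hcol j] at h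
    simpa [VanCyc.polarMatrix, Ne.symm hj, lt_of_le_of_ne (Fin.zero_le j) (Ne.symm hj)] using h
  have hQa : VanCyc.QuadOrd a := fun w hw hBw => by
    obtain ⟨c, rfl⟩ := hBker w hBw
    have : VanCyc.quadEval a (Pi.single 0 c) = a 0 0 * c * c := by
      rw [VanCyc.quadEval, Finset.sum_eq_single 0, Finset.sum_eq_single 0]
      · simp
      · intro j _ hj; simp [hj]
      · simp
      · intro i _ hi; simp [hi]
      · simp
    rw [this, mul_eq_zero, mul_eq_zero] at hw
    rw [show c = 0 by tauto, Pi.single_zero]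
  let W : Matrix (Fin (n + 1)) (Fin (n + 1)) k := VanCyc.polarMatrix a + Matrix.single 0 0 1
  have hWapp : ∀ (w : Fin (n + 1) → k) i, W.mulVec w i =
      (VanCyc.polarMatrix a).mulVec w i + if i = 0 then w 0 else 0 := fun w i => by
    simp only [W, Matrix.add_mulVec, Pi.add_apply]
    congr 1
    simp [Matrix.mulVec, dotProduct, Matrix.single_apply, eq_comm, ite_and]
  have hWi : Function.Injective W.mulVec := by
    intro x y hxy
    rw [← sub_eq_zero]
    rw [← sub_eq_zero, ← Matrix.mulVec_sub] at hxy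
    set w := x - y
    have h00 : (VanCyc.polarMatrix a).mulVec w 0 = 0 := by
      simp only [Matrix.mulVec, dotProduct]
      exact Finset.sum_eq_zero fun j _ => by rw [hsym 0 j, hcol j, zero_mul]
    have hw0 : w 0 = 0 := by
      have := congrFun hxy 0
      rwa [hWapp, if_pos rfl, h00, zero_add] at this
    obtain ⟨c, hcw⟩ := hBker w (funext fun i => by
      have := congrFun hxy i
      rw [hWapp] at this
      simpa [hw0] using this)
    rw [hcw, Pi.single_eq_same] at hw0
    rw [hcw, hw0, Pi.single_zero]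
  have hWu : IsUnit W.det := (Matrix.isUnit_iff_isUnit_det W).1 (Matrix.mulVec_injective_iff_isUnit.1 hWi)
  have hN : ∀ j l, j ≠ 0 → l ≠ 0 → ∑ i, VanCyc.polarMatrix a i j * W⁻¹ i l = if j = l then 1 else 0 := by
    intro j l hj _
    have := congrFun (congrFun (Matrix.mul_nonsing_inv W hWu) j) l
    rw [Matrix.mul_apply, Matrix.one_apply] at this
    rw [← this]
    refine Finset.sum_congr rfl fun i _ => ?_
    simp [W, hsym i j, Ne.symm hj]
  have hLs := hasSubst_of_ord (ord_linSub L)
  have hR' : Ord 3 (subst (linSub L) f -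
      ((VanCyc.quadPoly a + MvPolynomial.C 0 : MvPolynomial (Fin (n + 1)) k) : MvPowerSeries (Fin (n + 1)) k)) := by
    have h1 := ord_subst (ord_linSub L) hR
    rw [← coe_substAlgHom hLs, map_sub, coe_substAlgHom hLs, subst_target (ord_linSub L), qval_linSub] at h1
    rw [target_eq]
    exact h1
  obtain ⟨h, u, hh, hu, heq⟩ := exists_subst_eq_unit hc h0 hcol hN hR'
  refine ⟨a, hQa, ?_⟩
  have hs := hasSubst_of_ord (ord_X_add hh)
  let σ₁ : MvPowerSeries (Fin (n + 1)) k ≃ₐ[k] MvPowerSeries (Fin (n + 1)) k :=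
    AlgEquiv.ofBijective (substAlgHom hLs) (by rw [coe_substAlgHom]; exact linSub_bijective L hL)
  let σ₂ : MvPowerSeries (Fin (n + 1)) k ≃ₐ[k] MvPowerSeries (Fin (n + 1)) k :=
    AlgEquiv.ofBijective (substAlgHom hs) (by rw [coe_substAlgHom]; exact subst_bijective hh)
  refine ⟨Ideal.quotientEquivAlg _ _ (σ₁.trans σ₂) ?_⟩
  rw [Ideal.map_span, Set.image_singleton]
  have hσ : (σ₁.trans σ₂) f = u * ((VanCyc.quadPoly a : MvPolynomial (Fin (n + 1)) k) :
      MvPowerSeries (Fin (n + 1)) k) := by
    show substAlgHom hs (substAlgHom hLs f) = _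
    rw [substAlgHom_apply, substAlgHom_apply, heq]
  exact ((congrArg (fun z => Ideal.span {z}) hσ).trans (Ideal.span_singleton_mul_left_unit hu _)).symm

end Main

end Groth.Agent.Morse
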